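import Mathlib
import Cfsg.Prelude.Def_Local
import Cfsg.Prelude.Def_ChevE8
import Cfsg.Agent.Lib.GenFitting
import Cfsg.Agent.H540.E8C.End
import Cfsg.Agent.H942.S62.Iface

/-!
# S5919, the row `Sp₆(2)` (task R6, helper835)

A maximal subgroup `H` of `E₈(3)` with `F*(H) ≅ Sp₆(2)`: the partner `x'` of the element `y0` of order 5 lies in `H`
(`mem_of_partner`), and, the automorphisms of `Sp₆(2)` being inner, in `F*(H)`; so it is conjugate to `t0` under the
centraliser of `y0`, and `t0` fixes all the vectors fixed by `y0`.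
-/

set_option autoImplicit false
set_option maxRecDepth 100000
set_option linter.unusedSectionVars false

namespace Cfsg.Agent.H835.S62

section Abs

variable {G Q : Type*} [Group G] [Finite G] [Group Q]

/-- the embedding -/
noncomputable def emb {H : Subgroup G} (e : ↥(Cfsg.generalizedFittingSubgroup ↥H) ≃* Q) : Q →* G :=
  (H.subtype.comp (Cfsg.generalizedFittingSubgroup ↥H).subtype).comp e.symm.toMonoidHom

theorem emb_apply {H : Subgroup G} (e : ↥(Cfsg.generalizedFittingSubgroup ↥H) ≃* Q) (g : Q) :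
    emb e g = ((e.symm g : ↥H) : G) := rfl

theorem emb_inj {H : Subgroup G} (e : ↥(Cfsg.generalizedFittingSubgroup ↥H) ≃* Q) : Function.Injective (emb e) := by
  intro a b h
  rw [emb_apply, emb_apply] at h
  exact e.symm.injective (Subtype.ext (Subtype.ext h))

/-- elements of the range -/
theorem mem_range {H : Subgroup G} (e : ↥(Cfsg.generalizedFittingSubgroup ↥H) ≃* Q) (x : ↥H) :
    (x : G) ∈ (emb e).range ↔ x ∈ Cfsg.generalizedFittingSubgroup ↥H := by
  constructor
  · rintro ⟨g, hg⟩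
    rw [emb_apply] at hg
    have : ((e.symm g : ↥(Cfsg.generalizedFittingSubgroup ↥H)) : ↥H) = x := Subtype.ext hg
    rw [← this]
    exact (e.symm g).2
  · intro hx
    refine ⟨e ⟨x, hx⟩, ?_⟩
    rw [emb_apply, MulEquiv.symm_apply_apply]

theorem range_le {H : Subgroup G} (e : ↥(Cfsg.generalizedFittingSubgroup ↥H) ≃* Q) : (emb e).range ≤ H := by
  rintro _ ⟨g, rfl⟩
  rw [emb_apply]
  exact (e.symm g : ↥H).2

theorem le_norm {H : Subgroup G} (e : ↥(Cfsg.generalizedFittingSubgroup ↥H) ≃* Q) :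
    H ≤ Subgroup.normalizer ((emb e).range : Set G) := by
  have hn : (Cfsg.generalizedFittingSubgroup ↥H).Normal := Lib.GenFitting.genFitting_normal
  have key : ∀ h ∈ H, ∀ g ∈ (emb e).range, h * g * h⁻¹ ∈ (emb e).range := by
    intro h hh g hg
    have hgH := range_le e hg
    have h1 := (mem_range e ⟨g, hgH⟩).1 hg
    exact (mem_range e (⟨h, hh⟩ * ⟨g, hgH⟩ * ⟨h, hh⟩⁻¹)).2 (hn.conj_mem _ h1 _)
  intro h hh
  rw [Subgroup.mem_normalizer_iff]
  intro g
  constructor
  · exact key h hh g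
  · intro hg
    have h1 := key h⁻¹ (H.inv_mem hh) _ hg
    have h2 : h⁻¹ * (h * g * h⁻¹) * h⁻¹⁻¹ = g := by group
    rwa [h2] at h1

/-- elements of `H` lie in the range, the automorphisms of `Q` being inner -/
theorem mem_range_of_aut (hA : ∀ α : MulAut Q, ∃ g : Q, α = MulAut.conj g) {H : Subgroup G}
    (e : ↥(Cfsg.generalizedFittingSubgroup ↥H) ≃* Q) {x : G} (hx : x ∈ H) : x ∈ (emb e).range := by
  have hn : (Cfsg.generalizedFittingSubgroup ↥H).Normal := Lib.GenFitting.genFitting_normal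
  obtain ⟨g, hg⟩ := hA ((e.symm.trans (MulAut.conjNormal (⟨x, hx⟩ : ↥H) : MulAut _)).trans e)
  have h1 : ∀ s : Q, x * emb e s * x⁻¹ = emb e g * emb e s * (emb e g)⁻¹ := by
    intro s
    have h2 := congrArg (fun a : MulAut Q => emb e (a s)) hg
    simp only [MulAut.conj_apply, map_mul, map_inv] at h2
    rw [← h2, emb_apply, emb_apply, MulEquiv.trans_apply, MulEquiv.trans_apply, MulEquiv.symm_apply_apply,
      MulAut.conjNormal_apply]
    rfl
  have hgH : emb e g ∈ H := range_le e ⟨g, rfl⟩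
  have h3 : (⟨(emb e g)⁻¹ * x, H.mul_mem (H.inv_mem hgH) hx⟩ : ↥H) ∈
      Subgroup.centralizer (Cfsg.generalizedFittingSubgroup ↥H : Set ↥H) := by
    rw [Subgroup.mem_centralizer_iff]
    intro t ht
    obtain ⟨s, hs⟩ := (mem_range e t).2 ht
    refine Subtype.ext ?_
    show (t : G) * ((emb e g)⁻¹ * x) = (emb e g)⁻¹ * x * (t : G)
    have h4 := h1 s
    rw [hs] at h4
    have h5 : x * (t : G) = emb e g * (t : G) * (emb e g)⁻¹ * x := by
      rw [← h4]
      group
    rw [mul_assoc _ x, h5]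
    group
  have h6 := (mem_range e _).2 (Lib.GenFitting.centralizer_genFitting_le h3)
  have h7 : x = emb e g * ((emb e g)⁻¹ * x) := by group
  rw [h7]
  exact Subgroup.mul_mem _ ⟨g, rfl⟩ h6

end Abs

open Cfsg Cfsg.Lie Module
open Cfsg.Agent.H540.E8C.End
open Cfsg.Agent.H942.S62

/-- **The row `Sp₆(2)`.** -/
theorem rowSp (hN : NumSp) (hA : AutSp) (hI : InvY0) : RowSp := by
  rintro H ⟨e⟩ hH
  obtain ⟨F, hF⟩ : ∃ F : Sp2 →* E, F = emb (Q := Sp2) e := ⟨_, rfl⟩
  have hinj : Function.Injective F := by rw [hF]; exact emb_inj e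
  have hle : H ≤ Subgroup.normalizer (F.range : Set E) := by rw [hF]; exact le_norm e
  have hrg : ∀ x ∈ H, x ∈ F.range := fun x hx => by rw [hF]; exact mem_range_of_aut hA e hx
  obtain ⟨h1, -, ⟨x', hx2, hx1, hxc, hxf⟩, v, hv1, hv2⟩ := hN F hinj
  have hne : F.range ≠ ⊥ := by
    intro h
    have h2 : F y0 ∈ F.range := ⟨y0, rfl⟩
    rw [h, Subgroup.mem_bot] at h2
    exact y0_ne (hinj (by rw [h2, map_one]))
  have hfv : fixV F.range ≠ ⊥ := by
    intro h
    rw [h, finrank_bot] at h1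
    omega
  have hxH : x' ∈ H := mem_of_partner hH hne hle hfv (x := F y0) ⟨y0, rfl⟩ hxf
  obtain ⟨x, rfl⟩ := hrg x' hxH
  obtain ⟨s, hs1, hs2⟩ := hI x (hinj (by rw [map_mul, ← pow_two, hx2, map_one]))
    (fun h => hx1 (by rw [h, map_one])) (hinj (by rw [map_mul, map_mul]; exact hxc.eq.symm))
  apply hv2
  have h3 : ac (F y0) (ac (F s) v) = ac (F s) v := by
    rw [← ac_mul, ← map_mul, ← hs1, map_mul, ac_mul, hv1]
  have h4 := hxf _ h3
  rw [hs2, map_mul, map_mul, ac_mul, ac_mul, map_inv, ac_inv_ac] at h4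
  have h5 := congrArg (ac (F s)⁻¹) h4
  rwa [ac_inv_ac, ac_inv_ac] at h5

end Cfsg.Agent.H835.S62
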